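import Cfsg.Agent.Helper21.S5665QUADRIC
import Cfsg.Agent.Helper19.S5665ONE
import Cfsg.Agent.Helper17.S5665FULL
import Cfsg.Agent.Helper11.S5665RDELTA
import Cfsg.Agent.Helper20.S5665RNORM
import Cfsg.Agent.Helper22.S5665PROPER
import Cfsg.Agent.Helper2.FieldBasics

set_option autoImplicit false
set_option linter.unusedSectionVars false
set_option linter.unusedVariables false

/-! # S5665: assembly (MAIN, FINAL) from the real piece modules -/

namespace Cfsg.Agent.S5665P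

open Matrix Module Cfsg.Agent.Helper2.Sp Cfsg.Agent.Helper28.Sg Cfsg.Agent.S5700P
  Cfsg.Agent.Helper28.SpMax

variable {F : Type*} [Field F] [Fintype F] {m : ℕ}
  {δ : Matrix (Fin m ⊕ Fin m) (Fin m ⊕ Fin m) F} {d : F}

local notation "V" => (Fin m ⊕ Fin m → F)
local notation "Mat" => Matrix (Fin m ⊕ Fin m) (Fin m ⊕ Fin m) F
local notation "Sp" => Matrix.symplecticGroup (Fin m) F

/-- the model statement -/
theorem MAIN.top (U : SData δ d) (h2 : (2 : F) ≠ 0) (hm : 7 ≤ m) (M : Subgroup Sp)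
    (hH : ∀ g : Sp, InH δ g → g ∈ M) {g : Sp} (hg : g ∈ M) (hgH : ¬ InH δ g) : M = ⊤ := by
  obtain ⟨z, hz, hgz⟩ := QUADRIC.exists_z U h2 hm g hgH
  have hz0 : z ≠ 0 := by
    rintro rfl
    apply hgz
    rw [Matrix.mulVec_zero, Qs_def, Matrix.mulVec_zero, om_zero_left]
  exact FULL.top U h2 hm M hH hz0 hz (ONE.mem U h2 hm M hH hg hz hgz)

theorem FINAL.result (hm : 7 ≤ m) (hodd : Odd (Fintype.card F)) (K : Subalgebra F Mat)
    (hK : Cfsg.Geo.IsFieldSubalgebra 2 K)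
    (hac : Cfsg.Geo.IsAdjointClosedFor (Cfsg.sympForm m F) K)
    (hnsa : ¬ Cfsg.Geo.IsSelfAdjointFor (Cfsg.sympForm m F) K) :
    Cfsg.Geo.IsMaximalIn (Cfsg.spGL m F) (Cfsg.Geo.subalgebraNormalizer K ⊓ Cfsg.spGL m F) := by
  classical
  have h2 : (2 : F) ≠ 0 := Cfsg.Agent.Helper2.two_ne_zero_of_odd_card hodd
  have hm1 : 1 ≤ m := by omega
  obtain ⟨δ, d, U, hδK, hspan⟩ := RDELTA.exists_delta hm1 h2 K hK hac hnsa
  have hiff : ∀ A : Sp, toGL A ∈ Cfsg.Geo.subalgebraNormalizer K ↔ InH δ A := fun A =>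
    RNORM.mem_iff hm1 h2 U K hδK hspan (toGL A)
  refine ⟨lt_of_le_of_ne inf_le_right ?_, ?_⟩
  · intro heq
    obtain ⟨g, hg⟩ := PROPER.exists_not_inH U h2 hm
    have h1 : toGL g ∈ Cfsg.Geo.subalgebraNormalizer K ⊓ Cfsg.spGL m F := by
      rw [heq]; exact toGL_mem g
    exact hg ((hiff g).mp h1.1)
  · intro M hPM hMS
    by_cases hMP : M ≤ Cfsg.Geo.subalgebraNormalizer K ⊓ Cfsg.spGL m F
    · left; exact le_antisymm hMP hPM
    right
    refine le_antisymm hMS ?_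
    obtain ⟨g, hgM, hgP⟩ := SetLike.not_le_iff_exists.mp hMP
    have hgN : g ∉ Cfsg.Geo.subalgebraNormalizer K := fun h => hgP ⟨h, hMS hgM⟩
    obtain ⟨g0, rfl⟩ := exists_of_mem_spGL g (hMS hgM)
    have htop : M.comap toGL = ⊤ := by
      refine MAIN.top U h2 hm (M.comap toGL) ?_ (g := g0) hgM ?_
      · intro A hA
        apply hPM
        exact ⟨(hiff A).mpr hA, toGL_mem A⟩
      · intro h
        exact hgN ((hiff g0).mpr h)
    intro h hh
    obtain ⟨A, rfl⟩ := exists_of_mem_spGL h hh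
    have : A ∈ M.comap toGL := by rw [htop]; trivial
    exact this

end Cfsg.Agent.S5665P
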