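import Mathlib
import Cfsg.Prelude.Def_GeometricClasses
import Cfsg.Agent.Helper28.SpMax
import Cfsg.Agent.Helper28.S5700.Lib

set_option autoImplicit false
set_option linter.unusedSectionVars false
set_option linter.unusedVariables false

/-! # S5665 (`GU_m(q).2 < Sp_2m(q)`, `q` odd, `m ≥ 7`, is maximal): definitions

Model: `om` the standard symplectic form on `F^(2m)` (`Cfsg.Agent.Helper2.Sp.om`, definitionally `Cfsg.sympForm m F`),
`δ` a matrix with `δ * δ = d • 1`, `d` a non-square, `om (δ u) v = - om u (δ v)`.  So `K = F[δ]` is a quadratic field,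
the adjoint induces its conjugation, and `h(x, y) = om (δ x) y + om x y * δ` is a `K`-hermitian form.
`Qs δ x = om (δ x) x = h(x, x)`.  `H = N_Sp(K)` is `{g | InH δ g}`.

Transvections: `Tg v c : Sp`, `Tg v c *ᵥ x = x + (c * om v x) • v` (`Cfsg.Agent.Helper2.Sp.Tg_mulVec`; note the ORDER `om v x`).
The quadratic form `QF δ` (`QF δ x = Qs δ x`, polar form `2 * om (δ x) y`) makes `F^(2m)` a unitary space in the sense of
`Cfsg.Agent.S5700P.UData (QF δ) δ 0 d`, so all the existence pieces of S5700 (`EXK.K1/K2/K3`, `DUAL.*`, `EXHYP5`, ...) apply. -/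

namespace Cfsg.Agent.S5665P

open Matrix Cfsg.Agent.Helper2.Sp

variable {F : Type*} [Field F] {m : ℕ}

/-- the data of a unitary structure on the symplectic space `F^(2m)`: `K = F[δ]`, `δ² = d` a non-square,
`δ` skew-adjoint -/
structure SData (δ : Matrix (Fin m ⊕ Fin m) (Fin m ⊕ Fin m) F) (d : F) : Prop where
  sq : δ * δ = d • (1 : Matrix (Fin m ⊕ Fin m) (Fin m ⊕ Fin m) F)
  nonsq : ∀ r : F, r * r ≠ d
  adj : ∀ u v : Fin m ⊕ Fin m → F, om (δ *ᵥ u) v = - om u (δ *ᵥ v)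

/-- `g` normalises `K = F[δ]`: it is `K`-linear or `K`-semilinear -/
def InH (δ : Matrix (Fin m ⊕ Fin m) (Fin m ⊕ Fin m) F) (g : Matrix.symplecticGroup (Fin m) F) : Prop :=
  g.1 * δ = δ * g.1 ∨ g.1 * δ = -(δ * g.1)

/-- the hermitian norm `h(x, x)` -/
def Qs (δ : Matrix (Fin m ⊕ Fin m) (Fin m ⊕ Fin m) F) (x : Fin m ⊕ Fin m → F) : F := om (δ *ᵥ x) x

/-- the unitary transvection with centre `v` (for `Qs δ v = 0`):
`x ↦ x - d c om(v, x) v + c om(δ v, x) δ v` -/
def Ug (δ : Matrix (Fin m ⊕ Fin m) (Fin m ⊕ Fin m) F) (d : F) (v : Fin m ⊕ Fin m → F) (c : F) :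
    Matrix.symplecticGroup (Fin m) F :=
  Tg v (-(d * c)) * Tg (δ *ᵥ v) c

/-- `g` is the involution `-1` on the hyperbolic plane `⟨z, y⟩` (`om z y = 1`), `1` on its orthogonal -/
def IsIota (g : Matrix.symplecticGroup (Fin m) F) (z y : Fin m ⊕ Fin m → F) : Prop :=
  ∀ v : Fin m ⊕ Fin m → F, g.1 *ᵥ v = v - (2 * om v y) • z + (2 * om v z) • y

/-- the quadratic form `x ↦ om (δ x) x` -/
noncomputable def QF (δ : Matrix (Fin m ⊕ Fin m) (Fin m ⊕ Fin m) F) :
    QuadraticForm F (Fin m ⊕ Fin m → F) :=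
  LinearMap.BilinMap.toQuadraticMap (Matrix.toBilin' (δᵀ * Matrix.J (Fin m) F))

end Cfsg.Agent.S5665P
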