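import Cfsg.Agent.Helper1.S5665.Defs

set_option autoImplicit false
set_option linter.unusedSectionVars false
set_option linter.unusedVariables false

/-! # S5665: basic library -/

namespace Cfsg.Agent.S5665P

open Matrix Cfsg.Agent.Helper2.Sp Cfsg.Agent.Helper28.Sg Cfsg.Agent.S5700P

variable {F : Type*} [Field F] {m : ℕ}
  {δ : Matrix (Fin m ⊕ Fin m) (Fin m ⊕ Fin m) F} {d : F}

local notation "V" => (Fin m ⊕ Fin m → F)
local notation "Sp" => Matrix.symplecticGroup (Fin m) F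

/-! ### more `om` lemmas -/

theorem om_neg_right (x y : V) : om x (-y) = - om x y := by
  rw [om_swap (-y) x, om_neg_left, om_swap x y]; ring

theorem om_zero_left (y : V) : om (0 : V) y = 0 := by
  have := om_smul_left (0 : F) (0 : V) y
  rwa [zero_smul, zero_mul] at this

theorem om_zero_right (x : V) : om x (0 : V) = 0 := by
  rw [om_swap 0 x, om_zero_left, neg_zero]

/-- non-degeneracy of `om` -/
theorem eq_zero_of_om_right {x : V} (h : ∀ y : V, om x y = 0) : x = 0 := by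
  by_contra hx
  obtain ⟨y, hy⟩ := exists_om_ne_zero hx
  exact hy (h y)

theorem eq_zero_of_om_left {x : V} (h : ∀ y : V, om y x = 0) : x = 0 :=
  eq_zero_of_om_right (fun y => by rw [om_swap y x, h y, neg_zero])

/-! ### the `K`-structure -/

namespace SData

theorem dd (U : SData δ d) (x : V) : δ *ᵥ (δ *ᵥ x) = d • x := by
  rw [Matrix.mulVec_mulVec, U.sq, Matrix.smul_mulVec, Matrix.one_mulVec]

theorem d_ne_zero (U : SData δ d) : d ≠ 0 := by
  intro h
  exact U.nonsq 0 (by rw [h]; ring)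

/-- `om u (δ v) = - om (δ u) v` -/
theorem adj' (U : SData δ d) (u v : V) : om u (δ *ᵥ v) = - om (δ *ᵥ u) v := by
  rw [U.adj]; ring

/-- `om (δ u) (δ v) = - d om u v` -/
theorem om_dd (U : SData δ d) (u v : V) : om (δ *ᵥ u) (δ *ᵥ v) = - d * om u v := by
  rw [U.adj, U.dd, om_smul_right]; ring

/-- the bilinear form `om (δ u) v` is symmetric -/
theorem symm (U : SData δ d) (u v : V) : om (δ *ᵥ u) v = om (δ *ᵥ v) u := by
  rw [U.adj, om_swap (δ *ᵥ v) u]; ring

/-- the norm form `a² - d b²` is anisotropic -/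
theorem norm_ne_zero (U : SData δ d) {a b : F} (h : ¬ (a = 0 ∧ b = 0)) : a * a - d * b * b ≠ 0 := by
  intro h0
  by_cases hb : b = 0
  · subst hb
    apply h
    refine ⟨?_, rfl⟩
    have : a * a = 0 := by linear_combination h0
    exact mul_self_eq_zero.mp this
  · apply U.nonsq (a / b)
    field_simp
    linear_combination h0

/-- `δ` is injective -/
theorem delta_eq_zero (U : SData δ d) {x : V} (h : δ *ᵥ x = 0) : x = 0 := by
  have h1 := U.dd x
  rw [h, Matrix.mulVec_zero] at h1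
  rcases smul_eq_zero.mp h1.symm with h2 | h2
  · exact absurd h2 U.d_ne_zero
  · exact h2

end SData

/-! ### the hermitian norm -/

theorem Qs_def (δ : Matrix (Fin m ⊕ Fin m) (Fin m ⊕ Fin m) F) (x : V) : Qs δ x = om (δ *ᵥ x) x := rfl

/-- `om x (δ x) = - Qs x` -/
theorem SData.om_self_delta (U : SData δ d) (x : V) : om x (δ *ᵥ x) = - Qs δ x := by
  rw [U.adj', Qs_def]

theorem Qs_smul (δ : Matrix (Fin m ⊕ Fin m) (Fin m ⊕ Fin m) F) (c : F) (x : V) :
    Qs δ (c • x) = c * c * Qs δ x := by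
  rw [Qs_def, Qs_def, Matrix.mulVec_smul, om_smul_left, om_smul_right]; ring

theorem SData.Qs_add (U : SData δ d) (x y : V) :
    Qs δ (x + y) = Qs δ x + Qs δ y + 2 * om (δ *ᵥ x) y := by
  rw [Qs_def, Qs_def, Qs_def, Matrix.mulVec_add, om_add_left, om_add_right, om_add_right, U.symm y x]
  ring

theorem SData.Qs_sub (U : SData δ d) (x y : V) :
    Qs δ (x - y) = Qs δ x + Qs δ y - 2 * om (δ *ᵥ x) y := by
  rw [Qs_def, Qs_def, Qs_def, Matrix.mulVec_sub, om_sub_left, om_sub_right, om_sub_right, U.symm y x]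
  ring

theorem SData.Qs_delta (U : SData δ d) (x : V) : Qs δ (δ *ᵥ x) = - d * Qs δ x := by
  rw [Qs_def, Qs_def, U.dd, om_smul_left, om_swap (δ *ᵥ x) x]; ring

/-- `Qs (a x + b δ x) = (a² - d b²) Qs x` -/
theorem SData.Qs_comb (U : SData δ d) (a b : F) (x : V) :
    Qs δ (a • x + b • δ *ᵥ x) = (a * a - d * b * b) * Qs δ x := by
  rw [U.Qs_add, Qs_smul, Qs_smul, U.Qs_delta, Matrix.mulVec_smul, om_smul_left, om_smul_right,
    U.om_dd, om_self]
  ring

/-! ### the quadratic form `QF δ` and the bridge to the S5700 library -/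

theorem QF_apply (δ : Matrix (Fin m ⊕ Fin m) (Fin m ⊕ Fin m) F) (x : V) : QF δ x = Qs δ x := by
  unfold QF
  rw [LinearMap.BilinMap.toQuadraticMap_apply, Matrix.toBilin'_apply', Qs_def, om,
    ← Matrix.mulVec_mulVec, Matrix.dotProduct_mulVec, Matrix.vecMul_transpose]

/-- the polar form of `QF δ` is `2 om (δ x) y` -/
theorem SData.B_QF (U : SData δ d) (x y : V) : B (QF δ) x y = 2 * om (δ *ᵥ x) y := by
  show QuadraticMap.polar (⇑(QF δ)) x y = _
  unfold QuadraticMap.polar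
  rw [QF_apply, QF_apply, QF_apply, U.Qs_add]
  ring

theorem SData.udata (U : SData δ d) : UData (QF δ) δ 0 d where
  sq := by rw [U.sq, zero_smul, add_zero]
  irred := fun r h => U.nonsq r (by linear_combination h)
  adj := fun u v => by
    rw [U.B_QF, U.B_QF, U.B_QF, U.dd, om_smul_left, U.om_dd]; ring
  norm := fun a b x => by
    rw [QF_apply, QF_apply, U.Qs_comb]; ring

theorem SData.QF_nondeg (U : SData δ d) (h2 : (2 : F) ≠ 0) :
    (QuadraticMap.polarBilin (QF δ)).Nondegenerate := by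
  have key : ∀ x : V, (∀ y : V, B (QF δ) x y = 0) → x = 0 := by
    intro x hx
    apply U.delta_eq_zero
    apply eq_zero_of_om_right
    intro y
    have := hx y
    rw [U.B_QF] at this
    rcases mul_eq_zero.mp this with h | h
    · exact absurd h h2
    · exact h
  constructor
  · intro x hx
    exact key x (fun y => hx y)
  · intro y hy
    exact key y (fun x => by rw [B_comm]; exact hy x)

/-- `hperp` for `QF δ` is `h(x, y) = 0` -/
theorem SData.hperp_iff (U : SData δ d) (h2 : (2 : F) ≠ 0) (x y : V) :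
    hperp (QF δ) δ x y ↔ om (δ *ᵥ x) y = 0 ∧ om x y = 0 := by
  unfold hperp
  rw [U.B_QF, U.B_QF, U.dd, om_smul_left]
  constructor
  · rintro ⟨h1, h3⟩
    refine ⟨(mul_eq_zero.mp h1).resolve_left h2, ?_⟩
    have := (mul_eq_zero.mp h3).resolve_left h2
    exact (mul_eq_zero.mp this).resolve_left U.d_ne_zero
  · rintro ⟨h1, h3⟩
    rw [h1, h3]; simp


/-! ### the normaliser `H` -/

theorem inH_of_comm {g : Sp} (h : ∀ x : V, g.1 *ᵥ (δ *ᵥ x) = δ *ᵥ (g.1 *ᵥ x)) : InH δ g := by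
  left
  apply Matrix.ext_iff_mulVec.mpr
  intro x
  rw [← Matrix.mulVec_mulVec, ← Matrix.mulVec_mulVec]
  exact h x

theorem inH_of_anti {g : Sp} (h : ∀ x : V, g.1 *ᵥ (δ *ᵥ x) = - (δ *ᵥ (g.1 *ᵥ x))) : InH δ g := by
  right
  apply Matrix.ext_iff_mulVec.mpr
  intro x
  rw [← Matrix.mulVec_mulVec, Matrix.neg_mulVec, ← Matrix.mulVec_mulVec]
  exact h x

theorem InH.cases {g : Sp} (h : InH δ g) :
    (∀ x : V, g.1 *ᵥ (δ *ᵥ x) = δ *ᵥ (g.1 *ᵥ x)) ∨
      (∀ x : V, g.1 *ᵥ (δ *ᵥ x) = - (δ *ᵥ (g.1 *ᵥ x))) := by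
  rcases h with h | h
  · left
    intro x
    rw [Matrix.mulVec_mulVec, h, ← Matrix.mulVec_mulVec]
  · right
    intro x
    rw [Matrix.mulVec_mulVec, h, Matrix.neg_mulVec, ← Matrix.mulVec_mulVec]

theorem InH.one : InH δ (1 : Sp) := inH_of_comm (fun x => by simp)

theorem InH.mul {g g' : Sp} (h : InH δ g) (h' : InH δ g') : InH δ (g * g') := by
  rcases h.cases with h | h <;> rcases h'.cases with h' | h'
  · exact inH_of_comm (fun x => by rw [mul_mulVec, mul_mulVec, h', h])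
  · exact inH_of_anti (fun x => by rw [mul_mulVec, mul_mulVec, h', Matrix.mulVec_neg, h])
  · exact inH_of_anti (fun x => by rw [mul_mulVec, mul_mulVec, h', h])
  · exact inH_of_comm (fun x => by
      rw [mul_mulVec, mul_mulVec, h', Matrix.mulVec_neg, h, neg_neg])

theorem inv_mulVec_mulVec (g : Sp) (x : V) : (g⁻¹).1 *ᵥ (g.1 *ᵥ x) = x := by
  rw [← mul_mulVec, inv_mul_cancel]; simp

theorem mulVec_inv_mulVec (g : Sp) (x : V) : g.1 *ᵥ ((g⁻¹).1 *ᵥ x) = x := by
  rw [← mul_mulVec, mul_inv_cancel]; simp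

theorem InH.inv {g : Sp} (h : InH δ g) : InH δ g⁻¹ := by
  rcases h.cases with h | h
  · refine inH_of_comm (fun x => ?_)
    have h1 := h ((g⁻¹).1 *ᵥ x)
    rw [mulVec_inv_mulVec] at h1
    rw [← h1, inv_mulVec_mulVec]
  · refine inH_of_anti (fun x => ?_)
    have h1 := h ((g⁻¹).1 *ᵥ x)
    rw [mulVec_inv_mulVec] at h1
    have h2 : δ *ᵥ x = g.1 *ᵥ (-(δ *ᵥ ((g⁻¹).1 *ᵥ x))) := by
      rw [Matrix.mulVec_neg, h1, neg_neg]
    rw [h2, inv_mulVec_mulVec]

/-- `om (g⁻¹ x) y = om x (g y)` -/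
theorem om_inv_left (g : Sp) (x y : V) : om ((g⁻¹).1 *ᵥ x) y = om x (g.1 *ᵥ y) := by
  rw [← om_g g ((g⁻¹).1 *ᵥ x) y, mulVec_inv_mulVec]

/-- `om x (g⁻¹ y) = om (g x) y` -/
theorem om_inv_right (g : Sp) (x y : V) : om x ((g⁻¹).1 *ᵥ y) = om (g.1 *ᵥ x) y := by
  rw [← om_g g x ((g⁻¹).1 *ᵥ y), mulVec_inv_mulVec]

/-! ### unitary transvections -/

theorem SData.Ug_mulVec (U : SData δ d) {v : V} (hv : Qs δ v = 0) (c : F) (x : V) :
    (Ug δ d v c).1 *ᵥ x = x - (d * c * om v x) • v + (c * om (δ *ᵥ v) x) • δ *ᵥ v := by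
  unfold Ug
  rw [mul_mulVec, Tg_mulVec, Tg_mulVec, om_add_right, om_smul_right, U.om_self_delta, hv]
  module

theorem SData.Ug_inH (U : SData δ d) {v : V} (hv : Qs δ v = 0) (c : F) : InH δ (Ug δ d v c) := by
  apply inH_of_comm
  intro x
  rw [U.Ug_mulVec hv, U.Ug_mulVec hv, U.adj' v x, U.om_dd, Matrix.mulVec_add, Matrix.mulVec_sub,
    Matrix.mulVec_smul, Matrix.mulVec_smul, U.dd]
  module

/-- a unitary transvection whose centre is `h`-orthogonal to `z` fixes `z` -/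
theorem SData.Ug_fix (U : SData δ d) {v : V} (hv : Qs δ v = 0) (c : F) {z : V}
    (h1 : om v z = 0) (h2 : om (δ *ᵥ v) z = 0) : (Ug δ d v c).1 *ᵥ z = z := by
  rw [U.Ug_mulVec hv, h1, h2]; simp

/-! ### the involutions -/

theorem IsIota.conj {r : Sp} {a b : V} (h : IsIota r a b) (g : Sp) :
    IsIota (g * r * g⁻¹) (g.1 *ᵥ a) (g.1 *ᵥ b) := by
  intro v
  rw [mul_mulVec, mul_mulVec, h, Matrix.mulVec_add, Matrix.mulVec_sub, mulVec_inv_mulVec,
    Matrix.mulVec_smul, Matrix.mulVec_smul, om_inv_left, om_inv_left]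

theorem IsIota.conj' {r : Sp} {a b : V} (h : IsIota r a b) (g : Sp) :
    IsIota (g⁻¹ * r * g) ((g⁻¹).1 *ᵥ a) ((g⁻¹).1 *ᵥ b) := by
  have := h.conj g⁻¹
  rwa [inv_inv] at this

theorem card_idx (F : Type*) (m : ℕ) (hm : 7 ≤ m) : 14 ≤ Fintype.card (Fin m ⊕ Fin m) := by
  rw [Fintype.card_sum, Fintype.card_fin]; omega

end Cfsg.Agent.S5665P
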